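import Cfsg.Agent.H802.TE.Defs
import Cfsg.Agent.H390.TE.MOne
import Cfsg.Agent.H807.TE.M3d
import Cfsg.Agent.H521.TE.LA

/-!
# S5261, part E, (M3a) (helper835)
-/

set_option autoImplicit false
set_option linter.unusedSectionVars false

namespace Cfsg.Agent.H835.TE

open Cfsg Cfsg.FusionSystem Cfsg.Agent.H756.PU Cfsg.Agent.H802.TE
open Cfsg.Agent.H765.D3 Cfsg.Agent.H765.D3.Sy
open Cfsg.Agent.Hex.Defs (sh cr nm tr)
open Cfsg.Agent.H390.TE (exists_regular comm_inv_mem pow_p_Z3 exists_tr_mul)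
open scoped commutatorElement

universe u

/-- **(M3a)** -/
theorem stM3a (hphi : StPhi.{u}) : StM3a.{u} := by
  intro F K _ _ _ _ _ φ _ _ E Γ hE hmix hZ3 γ _hγ g hg z hz hnot
  obtain ⟨e, he, he1, he6⟩ := exists_regular hmix
  have hfin : Finite E := Finite.of_injective _ Subtype.val_injective
  have hpg : IsPGroup 2 E := hE.pgr.of_injective (Subgroup.inclusion hE.E_le) (Subgroup.inclusion_injective _)
  obtain ⟨-, hcom, -⟩ := hphi E 2 hE.pp hfin hpg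
  have hZ2 : Z2 φ ≤ E := Z2_le_Z3.trans hZ3
  have hZ1 : Z1 φ ≤ E := Z1_le_Z2.trans hZ2
  have hZ1P : Z1 φ ≤ Phi E := Cfsg.Agent.H807.TE.Z1_le hcom hZ2 he he6
  have h2K : (2 : K) = 0 := CharTwo.two_eq_zero
  obtain ⟨y, hy⟩ : ∃ y : Sy φ, y = ((γ g : E) : Sy φ) := ⟨_, rfl⟩
  rw [← hy] at hnot ⊢
  -- `y.x1 ≠ 0`
  have hy1 : y.x1 ≠ 0 := by
    intro h0
    apply hnot
    apply hZ1P
    have h1 := comm_Q1 (x := z) (y := y) hz.1 h0
    rw [commutatorElement_def] at h1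
    rw [h1]
    exact u4_mem _
  -- `y² = 1`, so `y.x6 = 0`
  have hy6 : y.x6 = 0 := by
    have h1 : g ^ 2 = 1 := Subtype.ext (pow_p_Z3 (p := 2) hg)
    have h2 : (γ g) ^ 2 = 1 := by rw [← map_pow, h1, map_one]
    have h3 : y ^ 2 = 1 := by
      rw [hy]
      exact congrArg Subtype.val h2
    have h4 := congrArg Sy.x5 h3
    rw [pow_two, mul_x5, one_x5, ← two_mul, h2K, zero_mul, zero_add, smul_eq_zero] at h4
    exact h4.resolve_right hy1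
  -- `w = [y, e]`
  obtain ⟨w, hw⟩ : ∃ w : Sy φ, w = ⁅y, e⁆ := ⟨_, rfl⟩
  have hw5 : w.x5 = e.x6 • y.x1 := by
    rw [hw, comm_x5, hy6, zero_smul, sub_zero]
  have hw50 : w.x5 ≠ 0 := by
    rw [hw5]
    exact smul_ne_zero he6 hy1
  have hw4 : w ∈ Z4 φ := by
    rw [hw]
    exact comm_mem_Z4 _ _
  obtain ⟨e', he'⟩ : ∃ e' : E, e' = γ.symm ⟨e, he⟩ := ⟨_, rfl⟩
  have hγe : γ e' = ⟨e, he⟩ := by rw [he', MulEquiv.apply_symm_apply]
  have hgw : w = ((γ ⁅g, e'⁆ : E) : Sy φ) := by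
    rw [hw, map_commutatorElement, hγe, hy]
    rfl
  have hge2 : ((⁅g, e'⁆ : E) : Sy φ) ∈ Z2 φ := by
    have h1 : ((⁅g, e'⁆ : E) : Sy φ) = ⁅(g : Sy φ), (e' : Sy φ)⁆ := rfl
    rw [h1]
    exact comm_inv_mem (comm_mem_Z2 hg)
  -- `[w, E] ≤ γ(Z1)`
  have key : ∀ f ∈ E, ∃ t : E, (t : Sy φ) ∈ Z1 φ ∧ ((γ t : E) : Sy φ) = ⁅w, f⁆ := by
    intro f hf
    refine ⟨⁅⁅g, e'⁆, γ.symm ⟨f, hf⟩⁆, ?_, ?_⟩
    · have h1 : ((⁅⁅g, e'⁆, γ.symm ⟨f, hf⟩⁆ : E) : Sy φ) = ⁅((⁅g, e'⁆ : E) : Sy φ), ((γ.symm ⟨f, hf⟩ : E) : Sy φ)⁆ := rfl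
      rw [h1]
      apply comm_inv_mem
      rw [comm_Z2 hge2]
      exact u4_mem _
    · rw [map_commutatorElement, MulEquiv.apply_symm_apply, hgw]
      rfl
  -- `[w, Z3] = Z1`
  have hsur : ∀ c : F, ∃ t : E, (t : Sy φ) ∈ Z1 φ ∧ ((γ t : E) : Sy φ) = u4 φ c := by
    intro c
    obtain ⟨b, hb⟩ := exists_tr_mul (φ := φ) hw50 (-c)
    obtain ⟨t, ht, ht'⟩ := key (u3 φ b) (hZ3 (u3_mem _))
    refine ⟨t, ht, ht'.trans ?_⟩
    rw [comm_Q1 (x := w) (y := u3 φ b) hw4.1 rfl]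
    congr 1
    show w.x6 * 0 - w.x2 * 0 - tr φ (w.x5 * b) + tr φ (w.x3 * 0) = c
    rw [hb]
    simp [tr_zero]
  -- `γ(Z1) = Z1`
  have hinv : ∀ s : E, (s : Sy φ) ∈ Z1 φ → ((γ s : E) : Sy φ) ∈ Z1 φ := by
    choose t ht ht' using hsur
    have hinj : Function.Injective fun c : F => ((t c : E) : Sy φ).x4 := by
      intro c d hcd
      have h1 : ((t c : E) : Sy φ) = ((t d : E) : Sy φ) := by
        rw [eq_u4 (ht c), eq_u4 (ht d)]
        exact congrArg (u4 φ) hcd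
      have h2 : t c = t d := Subtype.ext h1
      have h3 : u4 φ c = u4 φ d := by rw [← ht', ← ht', h2]
      exact congrArg Sy.x4 h3
    have hsurj := Finite.surjective_of_injective hinj
    intro s hs
    obtain ⟨c, hc⟩ := hsurj (s : Sy φ).x4
    have h1 : t c = s := by
      apply Subtype.ext
      rw [eq_u4 (ht c), eq_u4 hs]
      exact congrArg (u4 φ) hc
    rw [← h1, ht']
    exact u4_mem _
  refine ⟨hy6, hy1, ?_, hinv⟩
  intro x hx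
  obtain ⟨t, ht, ht'⟩ := key x hx
  have h1 : ⁅w, x⁆ ∈ Z1 φ := ht' ▸ hinv t ht
  have h2 := (comm_inv_mem h1).2.2.2.1
  rw [comm_x3 hw4, cr_comm] at h2
  by_contra hcon
  push Not at hcon
  refine Cfsg.Agent.H521.TE.LA.cr_ne_zero_two φ h2K hw50 (fun l hl => ?_) h2
  rw [hw5, smul_smul] at hl
  exact hcon _ hl

end Cfsg.Agent.H835.TE
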